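import Mathlib.NumberTheory.NumberField.InfiniteAdeleRing
import Mathlib.NumberTheory.NumberField.CanonicalEmbedding.ConvexBody
import Mathlib.RingTheory.DedekindDomain.AdicValuation
import Mathlib.RingTheory.DedekindDomain.Factorization
import Mathlib.RingTheory.FractionalIdeal.Norm

/-!
# Strong approximation off a finite place for a number field
-/

universe u

open NumberField IsDedekindDomain WithZero
open scoped nonZeroDivisors NNReal ENNReal

namespace SApproxLib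

variable {k : Type u} [Field k] [NumberField k]

lemma exists_mem_pow_notMem (v₀ v : HeightOneSpectrum (𝓞 k)) (h : v ≠ v₀) (M : ℕ) :
    ∃ z ∈ v₀.asIdeal ^ M, z ∉ v.asIdeal := by
  by_contra hc
  push Not at hc
  have : v₀.asIdeal ^ M ≤ v.asIdeal := hc
  exact h (HeightOneSpectrum.ext (v₀.isMaximal.eq_of_le v.isPrime.ne_top
    (Ideal.IsPrime.le_of_pow_le this)).symm)

open scoped Classical in
lemma exists_small (J : Ideal (𝓞 k)) (hJ : J ≠ ⊥) (v₀ : HeightOneSpectrum (𝓞 k)) {ε : ℝ} (hε : 0 < ε) :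
    ∃ β : k, β ≠ 0 ∧ (∀ v : HeightOneSpectrum (𝓞 k), v ≠ v₀ → ∀ N : ℕ, J ≤ v.asIdeal ^ N →
      v.valuation k β ≤ exp (-(N : ℤ))) ∧ ∀ w : InfinitePlace k, w β < ε := by
  let J' : FractionalIdeal (𝓞 k)⁰ k := J
  let P : FractionalIdeal (𝓞 k)⁰ k := (v₀.asIdeal : FractionalIdeal (𝓞 k)⁰ k)
  have hJ' : J' ≠ 0 := FractionalIdeal.coeIdeal_ne_zero.mpr hJ
  have hP : P ≠ 0 := FractionalIdeal.coeIdeal_ne_zero.mpr v₀.ne_bot
  let f : InfinitePlace k → ℝ≥0 := fun _ => ε.toNNReal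
  let C : ℝ≥0∞ := MeasureTheory.volume (ZSpan.fundamentalDomain (mixedEmbedding.latticeBasis k)) *
    (2 : ℝ≥0∞) ^ (Module.finrank ℝ (mixedEmbedding.mixedSpace k))
  have hvol : 0 < MeasureTheory.volume (mixedEmbedding.convexBodyLT k f) := by
    rw [mixedEmbedding.convexBodyLT_volume]
    refine ENNReal.mul_pos ?_ ?_
    · simpa using (mixedEmbedding.convexBodyLTFactor_ne_zero k)
    · rw [ENNReal.coe_ne_zero]
      exact (Finset.prod_pos fun w _ => pow_pos (Real.toNNReal_pos.mpr hε) _).ne'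
  obtain ⟨M, hM⟩ : ∃ M : ℕ, ENNReal.ofReal (FractionalIdeal.absNorm (J' / P ^ M) : ℚ) * C <
      MeasureTheory.volume (mixedEmbedding.convexBodyLT k f) := by
    have hC : C ≠ ⊤ := ENNReal.mul_ne_top (ZSpan.fundamentalDomain_isBounded _).measure_lt_top.ne
      (ENNReal.pow_ne_top ENNReal.ofNat_ne_top)
    have hlt : ((Ideal.absNorm v₀.asIdeal : ℝ))⁻¹ < 1 := by
      refine inv_lt_one_of_one_lt₀ ?_
      exact_mod_cast Nat.one_lt_iff_ne_zero_and_ne_one.mpr
        ⟨Ideal.absNorm_eq_zero_iff.not.mpr v₀.ne_bot, fun e => v₀.isPrime.ne_top (Ideal.absNorm_eq_one_iff.mp e)⟩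
    have ht : Filter.Tendsto (fun M : ℕ => (FractionalIdeal.absNorm (J' / P ^ M) : ℚ) |> fun q : ℚ =>
        ENNReal.ofReal (q : ℝ) * C) Filter.atTop (nhds 0) := by
      have e : ∀ M : ℕ, ((FractionalIdeal.absNorm (J' / P ^ M) : ℚ) : ℝ) =
          (Ideal.absNorm J : ℝ) * ((Ideal.absNorm v₀.asIdeal : ℝ))⁻¹ ^ M := fun M => by
        rw [map_div₀, map_pow, FractionalIdeal.coeIdeal_absNorm, FractionalIdeal.coeIdeal_absNorm, inv_pow, ← div_eq_mul_inv]
        push_cast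
        rfl
      have h1 : Filter.Tendsto (fun M : ℕ => (Ideal.absNorm J : ℝ) * ((Ideal.absNorm v₀.asIdeal : ℝ))⁻¹ ^ M)
          Filter.atTop (nhds 0) := by
        simpa using (tendsto_pow_atTop_nhds_zero_of_lt_one (inv_nonneg.mpr (Nat.cast_nonneg _)) hlt).const_mul
          (Ideal.absNorm J : ℝ)
      simp only [e]
      have := ENNReal.Tendsto.mul_const (ENNReal.tendsto_ofReal h1) (Or.inr hC)
      simpa using this
    obtain ⟨M, hM⟩ := (ht.eventually_lt_const hvol).exists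
    exact ⟨M, hM⟩
  have hne : J' / P ^ M ≠ 0 := div_ne_zero hJ' (pow_ne_zero _ hP)
  obtain ⟨β, hβI, hβ0, hβw⟩ := mixedEmbedding.exists_ne_zero_mem_ideal_lt k (f := f) (Units.mk0 _ hne) (by
    rw [mixedEmbedding.minkowskiBound, mixedEmbedding.volume_fundamentalDomain_fractionalIdealLatticeBasis,
      Units.val_mk0, mul_assoc]
    exact hM)
  refine ⟨β, hβ0, fun v hv N hN => ?_, fun w => ?_⟩
  · obtain ⟨z, hz, hzv⟩ := exists_mem_pow_notMem v₀ v hv M
    have hz' : algebraMap (𝓞 k) k z ∈ P ^ M := by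
      rw [← FractionalIdeal.coeIdeal_pow]
      exact FractionalIdeal.mem_coeIdeal_of_mem _ hz
    have h := FractionalIdeal.mul_mem_mul hβI hz'
    rw [Units.val_mk0, div_mul_cancel₀ _ (pow_ne_zero _ hP)] at h
    obtain ⟨r, hr, e⟩ := (FractionalIdeal.mem_coeIdeal _).mp h
    calc v.valuation k β = v.valuation k (β * algebraMap (𝓞 k) k z) := by
            rw [map_mul, (HeightOneSpectrum.valuation_eq_one_iff_notMem _).mpr hzv, mul_one]
      _ = v.intValuation r := by rw [← e, HeightOneSpectrum.valuation_of_algebraMap]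
      _ ≤ exp (-(N : ℤ)) := (v.intValuation_le_pow_iff_mem r N).mpr (hN hr)
  · have := hβw w
    simpa [f, Real.coe_toNNReal _ hε.le] using this

lemma exists_near_infinite (J : Ideal (𝓞 k)) (hJ : J ≠ ⊥) (v₀ : HeightOneSpectrum (𝓞 k)) (x : k) {δ : ℝ}
    (hδ : 0 < δ) : ∃ g : k, (∀ v : HeightOneSpectrum (𝓞 k), v ≠ v₀ → ∀ N : ℕ, J ≤ v.asIdeal ^ N →
      v.valuation k g ≤ exp (-(N : ℤ))) ∧ ∀ w : InfinitePlace k, w (g - x) < δ := by
  classical
  let b := NumberField.integralBasis k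
  let C : ℝ := ∑ w : InfinitePlace k, ∑ i, w (b i)
  have hC : 0 ≤ C := Finset.sum_nonneg fun w _ => Finset.sum_nonneg fun i _ => apply_nonneg w _
  obtain ⟨β, hβ0, hβv, hβw⟩ := exists_small J hJ v₀ (ε := δ / (C + 1)) (div_pos hδ (by linarith))
  let c := b.repr (x / β)
  let o : 𝓞 k := ∑ i, (⌊c i⌋ : ℤ) • RingOfIntegers.basis k i
  refine ⟨β * algebraMap (𝓞 k) k o, fun v hv N hN => ?_, fun w => ?_⟩
  · rw [map_mul]
    exact (mul_le_mul' (hβv v hv N hN) (v.valuation_le_one o)).trans_eq (mul_one _)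
  · have e : β * algebraMap (𝓞 k) k o - x = β * ∑ i, (((⌊c i⌋ : ℤ) : ℚ) - c i) • b i := by
      have hx : x / β = ∑ i, c i • b i := (b.sum_repr _).symm
      simp only [sub_smul, Finset.sum_sub_distrib, mul_sub, ← hx, mul_div_cancel₀ _ hβ0]
      congr 2
      simp [o, map_sum, b, NumberField.integralBasis_apply, Int.cast_smul_eq_zsmul]
    have hsum : w (∑ i, (((⌊c i⌋ : ℤ) : ℚ) - c i) • b i) ≤ C := by
      refine ((w.1).sum_le _ _).trans (le_trans ?_ (Finset.single_le_sum (f := fun w : InfinitePlace k => ∑ i, w (b i))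
        (fun w _ => Finset.sum_nonneg fun i _ => apply_nonneg w _) (Finset.mem_univ w)))
      refine Finset.sum_le_sum fun i _ => ?_
      rw [Rat.smul_def, map_mul]
      refine mul_le_of_le_one_left (apply_nonneg w _) ?_
      change w ((((⌊c i⌋ : ℤ) : ℚ) - c i : ℚ) : k) ≤ 1
      rw [← InfinitePlace.norm_embedding_eq, map_ratCast, Complex.norm_ratCast, abs_le]
      have h1 : ((⌊c i⌋ : ℤ) : ℝ) ≤ (c i : ℝ) := by exact_mod_cast Int.floor_le (c i)
      have h2 : (c i : ℝ) < ((⌊c i⌋ : ℤ) : ℝ) + 1 := by exact_mod_cast Int.lt_floor_add_one (c i)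
      push_cast
      constructor <;> linarith
    rw [e, map_mul]
    calc w β * w (∑ i, (((⌊c i⌋ : ℤ) : ℚ) - c i) • b i) ≤ δ / (C + 1) * C :=
          mul_le_mul (hβw w).le hsum (apply_nonneg w _) (div_nonneg hδ.le (by linarith))
      _ < δ := by
          rw [div_mul_eq_mul_div, div_lt_iff₀ (by linarith)]
          linarith

lemma finite_setOf_mem (r : 𝓞 k) (hr : r ≠ 0) : {v : HeightOneSpectrum (𝓞 k) | r ∈ v.asIdeal}.Finite := by
  refine (Ideal.finite_factors (I := Ideal.span {r}) (by simpa using hr)).subset fun v hv => ?_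
  simpa [Ideal.dvd_span_singleton] using hv

lemma finite_setOf_valuation_ne_one (a : k) (ha : a ≠ 0) :
    {v : HeightOneSpectrum (𝓞 k) | v.valuation k a ≠ 1}.Finite := by
  obtain ⟨r, s, hs, rfl⟩ := IsFractionRing.div_surjective (A := 𝓞 k) (K := k) a
  have hr : r ≠ 0 := by rintro rfl; simp at ha
  refine ((finite_setOf_mem r hr).union (finite_setOf_mem s (nonZeroDivisors.ne_zero hs))).subset fun v hv => ?_
  by_contra h
  rw [Set.mem_union, Set.mem_ofPred_eq, Set.mem_ofPred_eq, not_or] at h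
  refine hv ?_
  rw [map_div₀, (HeightOneSpectrum.valuation_eq_one_iff_notMem _).mpr h.1,
    (HeightOneSpectrum.valuation_eq_one_iff_notMem _).mpr h.2, div_one]

lemma finite_setOf_one_lt_valuation (a : k) :
    {v : HeightOneSpectrum (𝓞 k) | 1 < v.valuation k a}.Finite := by
  rcases eq_or_ne a 0 with rfl | ha
  · simp
  · exact (finite_setOf_valuation_ne_one a ha).subset fun v hv => ne_of_gt hv

lemma exists_global_approx (E : Finset (HeightOneSpectrum (𝓞 k))) (q : HeightOneSpectrum (𝓞 k) → k)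
    (N : HeightOneSpectrum (𝓞 k) → ℕ) :
    ∃ x : k, (∀ v ∉ E, v.valuation k x ≤ 1) ∧ ∀ v ∈ E, v.valuation k (x - q v) ≤ exp (-(N v : ℤ)) := by
  classical
  obtain ⟨⟨D, hD⟩, hint⟩ := IsLocalization.exist_integer_multiples (𝓞 k)⁰ E q
  have hD0 : D ≠ 0 := nonZeroDivisors.ne_zero hD
  choose r hr using hint
  let E' := E ∪ (finite_setOf_mem D hD0).toFinset
  have he : ∀ v : HeightOneSpectrum (𝓞 k), ∃ e : ℕ, exp (-(e : ℤ)) ≤ v.valuation k (algebraMap (𝓞 k) k D) := by
    intro v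
    have h0 : v.valuation k (algebraMap (𝓞 k) k D) ≠ 0 := by simp [hD0]
    refine ⟨(-log (v.valuation k (algebraMap (𝓞 k) k D))).toNat, ?_⟩
    rw [← le_log_iff_exp_le h0]
    omega
  choose e he using he
  obtain ⟨y, hy⟩ := IsDedekindDomain.exists_forall_sub_mem_ideal (s := E')
    (fun v : HeightOneSpectrum (𝓞 k) => v.asIdeal) (fun v => (if v ∈ E then N v else 0) + e v)
    (fun v _ => v.prime) (fun v _ v' _ h h' => h (HeightOneSpectrum.ext h'))
    (fun v => if h : v.1 ∈ E then r v.1 h else 0)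
  have hval : ∀ (v : HeightOneSpectrum (𝓞 k)) (z : 𝓞 k) (M : ℕ), z ∈ v.asIdeal ^ (M + e v) →
      v.valuation k (algebraMap (𝓞 k) k z / algebraMap (𝓞 k) k D) ≤ exp (-(M : ℤ)) := by
    intro v z M hz
    rw [map_div₀, div_le_iff₀ (zero_lt_iff.mpr (by simp [hD0]))]
    calc v.valuation k (algebraMap (𝓞 k) k z) ≤ exp (-((M + e v : ℕ) : ℤ)) := by
          rw [HeightOneSpectrum.valuation_of_algebraMap]
          exact (v.intValuation_le_pow_iff_mem _ _).mpr hz
      _ ≤ exp (-(M : ℤ)) * v.valuation k (algebraMap (𝓞 k) k D) := by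
          rw [show (-((M + e v : ℕ) : ℤ)) = -(M : ℤ) + -(e v : ℤ) by push_cast; ring, exp_add]
          exact mul_le_mul_right (he v) _
  refine ⟨algebraMap (𝓞 k) k y / algebraMap (𝓞 k) k D, fun v hv => ?_, fun v hv => ?_⟩
  · by_cases hv' : v ∈ E'
    · have := hy v hv'
      simp only [hv, dite_false, if_false, sub_zero] at this
      exact (hval v y 0 this).trans_eq (by simp)
    · rw [map_div₀, (HeightOneSpectrum.valuation_eq_one_iff_notMem (K := k) (r := D) _).mpr (fun h => hv' (by simp [E', h])), div_one]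
      exact v.valuation_le_one y
  · have := hy v (by simp [E', hv])
    simp only [hv, dite_true, if_true] at this
    have hq : algebraMap (𝓞 k) k y / algebraMap (𝓞 k) k D - q v =
        algebraMap (𝓞 k) k (y - r v hv) / algebraMap (𝓞 k) k D := by
      have h0 : algebraMap (𝓞 k) k D ≠ 0 := by simp [hD0]
      rw [map_sub, sub_div, hr v hv, Algebra.smul_def, mul_div_cancel_left₀ _ h0]
    rw [hq]
    exact hval v _ _ this

lemma exists_exp_lt {γ : WithZero (Multiplicative ℤ)} (h : γ ≠ 0) : ∃ N : ℕ, exp (-(N : ℤ)) < γ :=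
  ⟨(1 - log γ).toNat, by rw [← lt_log_iff_exp_lt h]; omega⟩

lemma exists_ball_subset (v : HeightOneSpectrum (𝓞 k)) {U : Set (v.adicCompletion k)} (hU : IsOpen U) (q : k)
    (hq : algebraMap k (v.adicCompletion k) q ∈ U) :
    ∃ N : ℕ, ∀ y : k, v.valuation k (y - q) ≤ exp (-(N : ℤ)) → algebraMap k (v.adicCompletion k) y ∈ U := by
  obtain ⟨γ, hγ⟩ := Valued.mem_nhds.mp (hU.mem_nhds hq)
  have hne : MonoidWithZeroHom.ValueGroup₀.embedding γ.val ≠ 0 := by simp
  obtain ⟨N, hN⟩ := exists_exp_lt hne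
  refine ⟨N, fun y hy => hγ ?_⟩
  rw [Set.mem_ofPred_eq, ← map_sub, Valuation.restrict_lt_iff_lt_embedding]
  refine lt_of_le_of_lt ?_ hN
  exact (HeightOneSpectrum.valuedAdicCompletion_eq_valuation' v (y - q)).trans_le hy

/-- Strong approximation off `v₀`, with archimedean places. -/
theorem exists_strong_approx (v₀ : HeightOneSpectrum (𝓞 k)) (E : Finset (HeightOneSpectrum (𝓞 k))) (hE : v₀ ∉ E)
    (U : (v : HeightOneSpectrum (𝓞 k)) → Set (v.adicCompletion k)) (hU : ∀ v ∈ E, IsOpen (U v) ∧ (U v).Nonempty)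
    (V : (w : InfinitePlace k) → Set w.Completion) (hV : ∀ w, IsOpen (V w) ∧ (V w).Nonempty) :
    ∃ x : k, (∀ v, v ∉ E → v ≠ v₀ → v.valuation k x ≤ 1) ∧
      (∀ v ∈ E, algebraMap k (v.adicCompletion k) x ∈ U v) ∧ ∀ w, algebraMap k w.Completion x ∈ V w := by
  classical
  have hq : ∀ v, ∃ (q : k) (N : ℕ), v ∈ E → ∀ y : k, v.valuation k (y - q) ≤ exp (-(N : ℤ)) →
      algebraMap k (v.adicCompletion k) y ∈ U v := by
    intro v
    by_cases hv : v ∈ E
    · obtain ⟨q, hq⟩ := (v.denseRange_algebraMap k).exists_mem_open (hU v hv).1 (hU v hv).2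
      obtain ⟨N, hN⟩ := exists_ball_subset v (hU v hv).1 q hq
      exact ⟨q, N, fun _ => hN⟩
    · exact ⟨0, 0, fun h => absurd h hv⟩
  choose q N hqN using hq
  obtain ⟨x₁, hx₁, hx₁'⟩ := exists_global_approx E q N
  obtain ⟨y₀, hy₀⟩ := (InfiniteAdeleRing.denseRange_algebraMap k).exists_mem_open
    (isOpen_set_pi Set.finite_univ fun w _ => (hV w).1)
    (Set.univ_pi_nonempty_iff.mpr fun w => (hV w).2)
  have hδ : ∀ w : InfinitePlace k, ∀ᶠ δ : ℝ in nhdsWithin 0 (Set.Ioi 0),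
      ∀ y : k, w (y - y₀) < δ → algebraMap k w.Completion y ∈ V w := by
    intro w
    obtain ⟨ε, hε, hball⟩ := Metric.isOpen_iff.mp (hV w).1 _ (hy₀ w (Set.mem_univ w))
    filter_upwards [Ioo_mem_nhdsGT hε] with δ hδ y hy
    refine hball ?_
    change dist (algebraMap k w.Completion y) (algebraMap k w.Completion y₀) < ε
    rw [dist_eq_norm, ← map_sub, InfinitePlace.Completion.algebraMap_apply, InfinitePlace.Completion.norm_coe]
    exact hy.trans hδ.2
  obtain ⟨δ, hδ', hδ0⟩ := ((Filter.eventually_all.mpr hδ).and self_mem_nhdsWithin).exists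
  let J : Ideal (𝓞 k) := ∏ v ∈ E, v.asIdeal ^ N v
  have hJ : J ≠ ⊥ := by
    rw [← Submodule.zero_eq_bot, Ne, Finset.prod_eq_zero_iff]
    rintro ⟨v, -, h⟩
    exact pow_ne_zero _ v.ne_bot h
  obtain ⟨g, hg, hgw⟩ := exists_near_infinite J hJ v₀ (y₀ - x₁) hδ0
  refine ⟨x₁ + g, fun v hv hv0 => ?_, fun v hv => hqN v hv _ ?_, fun w => hδ' w _ ?_⟩
  · refine (Valuation.map_add _ _ _).trans (max_le (hx₁ v hv) ?_)
    simpa using hg v hv0 0 (by simp)
  · rw [show x₁ + g - q v = (x₁ - q v) + g by ring]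
    exact (Valuation.map_add _ _ _).trans (max_le (hx₁' v hv)
      (hg v (fun e => hE (e ▸ hv)) _ (Ideal.le_of_dvd (Finset.dvd_prod_of_mem _ hv))))
  · rw [show x₁ + g - y₀ = g - (y₀ - x₁) by ring]
    exact hgw w

/-- The vector version of strong approximation off `v₀`. -/
theorem exists_strong_approx_pi {ι : Type*} [Finite ι] (v₀ : HeightOneSpectrum (𝓞 k))
    (E : Finset (HeightOneSpectrum (𝓞 k))) (hE : v₀ ∉ E)
    (U : (v : HeightOneSpectrum (𝓞 k)) → Set (ι → v.adicCompletion k)) (hU : ∀ v ∈ E, IsOpen (U v) ∧ (U v).Nonempty)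
    (V : (w : InfinitePlace k) → Set (ι → w.Completion)) (hV : ∀ w, IsOpen (V w) ∧ (V w).Nonempty) :
    ∃ x : ι → k, (∀ v, v ∉ E → v ≠ v₀ → ∀ i, v.valuation k (x i) ≤ 1) ∧
      (∀ v ∈ E, (fun i => algebraMap k (v.adicCompletion k) (x i)) ∈ U v) ∧
      ∀ w, (fun i => algebraMap k w.Completion (x i)) ∈ V w := by
  classical
  have hu : ∀ v, ∃ u : ι → Set (v.adicCompletion k), v ∈ E →
      (∀ i, IsOpen (u i) ∧ (u i).Nonempty) ∧ Set.univ.pi u ⊆ U v := by
    intro v
    by_cases hv : v ∈ E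
    · obtain ⟨a, ha⟩ := (hU v hv).2
      obtain ⟨u, hu, hsub⟩ := isOpen_pi_iff'.mp (hU v hv).1 a ha
      exact ⟨u, fun _ => ⟨fun i => ⟨(hu i).1, a i, (hu i).2⟩, hsub⟩⟩
    · exact ⟨fun _ => ∅, fun h => absurd h hv⟩
  choose u hu using hu
  have hz : ∀ w, ∃ z : ι → Set w.Completion, (∀ i, IsOpen (z i) ∧ (z i).Nonempty) ∧ Set.univ.pi z ⊆ V w := by
    intro w
    obtain ⟨a, ha⟩ := (hV w).2
    obtain ⟨z, hz, hsub⟩ := isOpen_pi_iff'.mp (hV w).1 a ha
    exact ⟨z, fun i => ⟨(hz i).1, a i, (hz i).2⟩, hsub⟩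
  choose z hz hzV using hz
  choose x hx1 hx2 hx3 using fun i : ι => exists_strong_approx v₀ E hE (fun v => u v i) (fun v hv => (hu v hv).1 i)
    (fun w => z w i) (fun w => hz w i)
  exact ⟨x, fun v hv hv0 i => hx1 i v hv hv0, fun v hv => (hu v hv).2 fun i _ => hx2 i v hv,
    fun w => hzV w fun i _ => hx3 i w⟩

end SApproxLib
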