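import Groth.Agent.SApproxLib.Basic
import Groth.Agent.WeilLib.Dim
import Mathlib.RingTheory.MvPolynomial.Homogeneous
import Mathlib.Algebra.MvPolynomial.Funext
import Mathlib.Topology.Algebra.MvPolynomial
import Mathlib.RingTheory.MvPolynomial.Basic
import Mathlib.RingTheory.KrullDimension.Polynomial

/-!
# Strong approximation for the complement of a closed subset of codimension two
-/

universe u

open NumberField IsDedekindDomain WithZero MvPolynomial

namespace SApproxLib

lemma le_ringKrullDim_of_algebraicIndependent (k : Type u) [Field k] (A : Type u) [CommRing A] [Algebra k A]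
    [Algebra.FiniteType k A] {n : ℕ} (x : Fin n → A) (hx : AlgebraicIndependent k x) :
    (n : WithBot ℕ∞) ≤ ringKrullDim A := by
  let S : Submonoid A := (nonZeroDivisors (MvPolynomial (Fin n) k)).map (MvPolynomial.aeval x : MvPolynomial (Fin n) k →ₐ[k] A)
  obtain ⟨q, hq, -, hdisj⟩ := Ideal.exists_le_prime_disjoint (⊥ : Ideal A) S (by
    rw [Set.disjoint_left]
    rintro a ha ⟨P, hP, rfl⟩
    exact nonZeroDivisors.ne_zero hP (hx (by simpa using ha)))
  have hx' : AlgebraicIndependent k (fun i => Ideal.Quotient.mkₐ k q (x i)) := by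
    rw [algebraicIndependent_iff]
    intro P hP
    by_contra h0
    rw [← MvPolynomial.comp_aeval, AlgHom.comp_apply, Ideal.Quotient.mkₐ_eq_mk,
      Ideal.Quotient.eq_zero_iff_mem] at hP
    exact Set.disjoint_left.mp hdisj hP ⟨P, mem_nonZeroDivisors_of_ne_zero h0, rfl⟩
  have hF := hx'.map' (f := IsScalarTower.toAlgHom k (A ⧸ q) (FractionRing (A ⧸ q)))
    (IsFractionRing.injective (A ⧸ q) (FractionRing (A ⧸ q)))
  obtain ⟨s, hs, ht⟩ := WeilLib.dim_eq_trdeg k (A ⧸ q) (FractionRing (A ⧸ q))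
  have hns : n ≤ s := by
    have := hF.lift_cardinalMk_le_trdeg
    rw [ht, Cardinal.lift_natCast, Cardinal.mk_fin, Cardinal.lift_natCast] at this
    exact_mod_cast this
  calc (n : WithBot ℕ∞) ≤ (s : WithBot ℕ∞) := by exact_mod_cast hns
    _ = ringKrullDim (A ⧸ q) := hs.symm
    _ ≤ ringKrullDim A := ringKrullDim_quotient_le q

/-- An ideal of codimension at least two contains a non-zero form. -/
lemma exists_homogeneous_mem (k : Type u) [Field k] (n : ℕ) (I : Ideal (MvPolynomial (Fin n) k))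
    (h : ringKrullDim (MvPolynomial (Fin n) k ⧸ I) + 2 ≤ (n : WithBot ℕ∞)) :
    ∃ (G : MvPolynomial (Fin n) k) (D : ℕ), G.IsHomogeneous D ∧ G ≠ 0 ∧ G ∈ I := by
  let x : Fin n → MvPolynomial (Fin n) k ⧸ I := fun i => Ideal.Quotient.mk I (X i)
  let y : Fin n → Polynomial (MvPolynomial (Fin n) k ⧸ I) := fun i => Polynomial.C (x i) * Polynomial.X
  have hdep : ¬ AlgebraicIndependent k y := fun hy => by
    have h1 := le_ringKrullDim_of_algebraicIndependent k _ y hy
    rw [Polynomial.ringKrullDim_of_isNoetherianRing] at h1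
    generalize ringKrullDim (MvPolynomial (Fin n) k ⧸ I) = d at h h1
    induction d with
    | bot => simp at h1
    | coe d =>
      induction d using ENat.recTopCoe with
      | top =>
        rw [show ((⊤ : ℕ∞) : WithBot ℕ∞) + 2 = ((⊤ : ℕ∞) : WithBot ℕ∞) from rfl] at h
        exact absurd (WithBot.coe_le_coe.mp h) (by simp)
      | coe d =>
        have h2 : ((d + 2 : ℕ) : WithBot ℕ∞) ≤ (n : WithBot ℕ∞) := le_trans (le_of_eq (by push_cast; rfl)) h
        have h3 : (n : WithBot ℕ∞) ≤ ((d + 1 : ℕ) : WithBot ℕ∞) := le_trans h1 (le_of_eq (by push_cast; rfl))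
        have h4 : d + 2 ≤ n := by exact_mod_cast h2
        have h5 : n ≤ d + 1 := by exact_mod_cast h3
        omega
  rw [algebraicIndependent_iff] at hdep
  push Not at hdep
  obtain ⟨P, hP, hP0⟩ := hdep
  obtain ⟨D, hD⟩ : ∃ D, homogeneousComponent D P ≠ 0 := by
    by_contra hc
    push Not at hc
    exact hP0 (by rw [← sum_homogeneousComponent P]; simp [hc])
  refine ⟨homogeneousComponent D P, D, homogeneousComponent_isHomogeneous D P, hD, ?_⟩
  rw [← Ideal.Quotient.eq_zero_iff_mem]
  have hcomp : ∀ i, aeval y (homogeneousComponent i P) =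
      Polynomial.C (Ideal.Quotient.mk I (homogeneousComponent i P)) * Polynomial.X ^ i := by
    intro i
    set Q := homogeneousComponent i P
    have hQ : Q.IsHomogeneous i := homogeneousComponent_isHomogeneous i P
    rw [Q.as_sum, map_sum, map_sum, map_sum, Finset.sum_mul]
    refine Finset.sum_congr rfl fun d hd => ?_
    have hdeg : d.sum (fun _ e => e) = i := by
      rw [← hQ (mem_support_iff.mp hd), Finsupp.weight_apply]
      simp
    rw [aeval_monomial, ← hdeg, monomial_eq, map_mul, map_mul, ← MvPolynomial.algebraMap_eq, Ideal.Quotient.mk_algebraMap k I,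
      IsScalarTower.algebraMap_apply k (MvPolynomial (Fin n) k ⧸ I) (Polynomial (MvPolynomial (Fin n) k ⧸ I)),
      Polynomial.algebraMap_eq, mul_assoc]
    congr 1
    simp only [Finsupp.prod, Finsupp.sum, map_prod, map_pow, y, x]
    exact (Finset.prod_congr rfl fun j _ => mul_pow _ _ _).trans (Finset.prod_mul_distrib.trans
      (congrArg (_ * ·) (Finset.prod_pow_eq_pow_sum _ _ _)))
  have hc := congrArg (fun p => Polynomial.coeff p D) hP
  rw [← sum_homogeneousComponent P, map_sum] at hc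
  simp only [hcomp, Polynomial.finsetSum_coeff, Polynomial.coeff_C_mul_X_pow, Polynomial.coeff_zero,
    Finset.sum_ite_eq] at hc
  rw [if_pos (Finset.mem_range.mpr (Nat.lt_succ_of_le (le_of_not_gt fun hlt =>
    hD (homogeneousComponent_eq_zero D P hlt))))] at hc
  exact hc

/-- A line through a point outside a closed subset of codimension two, in a general direction,
misses it. -/
lemma exists_form_line (k : Type u) [Field k] (n m : ℕ) (g : Fin m → MvPolynomial (Fin n) k)
    (h : ringKrullDim (MvPolynomial (Fin n) k ⧸ Ideal.span (Set.range g)) + 2 ≤ (n : WithBot ℕ∞))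
    (P₀ : Fin n → k) (hP₀ : ∃ j, aeval P₀ (g j) ≠ 0) :
    ∃ G : MvPolynomial (Fin n) k, G ≠ 0 ∧ ∀ d : Fin n → k, aeval d G ≠ 0 →
      ∃ hc : Fin m → Polynomial k,
        ∑ j, hc j * aeval (fun i => Polynomial.C (P₀ i) + Polynomial.C (d i) * Polynomial.X) (g j) = 1 := by
  let τ : MvPolynomial (Fin n) k ≃ₐ[k] MvPolynomial (Fin n) k :=
    AlgEquiv.ofAlgHom (aeval fun i => X i + C (P₀ i)) (aeval fun i => X i - C (P₀ i))
      (algHom_ext fun i => by simp) (algHom_ext fun i => by simp)
  let I := Ideal.span (Set.range g)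
  have h' : ringKrullDim (MvPolynomial (Fin n) k ⧸ I.map (τ : MvPolynomial (Fin n) k →+* MvPolynomial (Fin n) k)) + 2 ≤
      (n : WithBot ℕ∞) := by
    have e := ringKrullDim_eq_of_ringEquiv (Ideal.quotientEquiv I (I.map (τ : MvPolynomial (Fin n) k →+* MvPolynomial (Fin n) k)) τ.toRingEquiv rfl)
    exact e ▸ h
  obtain ⟨G, D, hG, hG0, hGI⟩ := exists_homogeneous_mem k n _ h'
  refine ⟨G, hG0, fun d hd => ?_⟩
  let L : MvPolynomial (Fin n) k →ₐ[k] Polynomial k :=
    aeval fun i => Polynomial.C (P₀ i) + Polynomial.C (d i) * Polynomial.X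
  suffices htop : Ideal.span (Set.range fun j => L (g j)) = ⊤ by
    have h1 : (1 : Polynomial k) ∈ Ideal.span (Set.range fun j => L (g j)) := htop ▸ Submodule.mem_top
    exact Ideal.mem_span_range_iff_exists_fun.mp h1
  by_contra hne
  obtain ⟨M, hM, hle⟩ := Ideal.exists_le_maximal _ hne
  let K := Polynomial k ⧸ M
  let : Field K := Ideal.Quotient.field M
  let t : K := Ideal.Quotient.mk M Polynomial.X
  let ev : MvPolynomial (Fin n) k →ₐ[k] K := aeval fun i => algebraMap k K (P₀ i) + algebraMap k K (d i) * t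
  have hevL : ev = (Ideal.Quotient.mkₐ k M).comp L := algHom_ext fun i => by
    simp [ev, L, t, K]
    rfl
  have hev0 : ∀ j, ev (g j) = 0 := fun j => by
    rw [hevL, AlgHom.comp_apply, Ideal.Quotient.mkₐ_eq_mk, Ideal.Quotient.eq_zero_iff_mem]
    exact hle (Ideal.subset_span ⟨j, rfl⟩)
  have hGz : aeval (fun i => algebraMap k K (d i) * t) G = 0 := by
    have hIle : I.map (τ : MvPolynomial (Fin n) k →+* MvPolynomial (Fin n) k) ≤
        RingHom.ker (aeval (fun i => algebraMap k K (d i) * t) : MvPolynomial (Fin n) k →ₐ[k] K) := by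
      rw [Ideal.map_le_iff_le_comap, Ideal.span_le]
      rintro _ ⟨j, rfl⟩
      rw [SetLike.mem_coe, Ideal.mem_comap, RingHom.mem_ker]
      have e : (aeval (fun i => algebraMap k K (d i) * t) : MvPolynomial (Fin n) k →ₐ[k] K).comp
          (τ : MvPolynomial (Fin n) k →ₐ[k] MvPolynomial (Fin n) k) = ev := algHom_ext fun i => by
        simp [τ, ev, add_comm]
      exact (AlgHom.congr_fun e (g j)).trans (hev0 j)
    exact hIle hGI
  have hhom : aeval (fun i => algebraMap k K (d i) * t) G = algebraMap k K (aeval d G) * t ^ D := by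
    rw [G.as_sum, map_sum, map_sum, map_sum, Finset.sum_mul]
    refine Finset.sum_congr rfl fun e he => ?_
    have hdeg : e.sum (fun _ a => a) = D := by
      rw [← hG (mem_support_iff.mp he), Finsupp.weight_apply]
      simp
    rw [aeval_monomial, aeval_monomial, map_mul, ← hdeg]
    simp only [Algebra.algebraMap_self, RingHom.id_apply, Finsupp.prod, Finsupp.sum, map_prod, map_pow, mul_pow,
      Finset.prod_mul_distrib, Finset.prod_pow_eq_pow_sum]
    ring
  rw [hhom, mul_eq_zero] at hGz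
  have ht : t = 0 := eq_zero_of_pow_eq_zero (hGz.resolve_left (by simpa using hd))
  obtain ⟨j, hj⟩ := hP₀
  apply hj
  apply (algebraMap k K).injective
  have := hev0 j
  simp only [ev, ht, mul_zero, add_zero] at this
  rw [map_zero, ← MvPolynomial.aeval_algebraMap_apply]
  exact this

variable {k : Type u} [Field k] [NumberField k]

lemma continuous_mvAeval {R A σ : Type*} [CommSemiring R] [CommSemiring A] [Algebra R A] [TopologicalSpace A]
    [IsTopologicalSemiring A] (p : MvPolynomial σ R) : Continuous fun x : σ → A => aeval x p := by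
  induction p using MvPolynomial.induction_on with
  | C a => simpa using continuous_const
  | add a b ha hb => simp only [map_add]; exact ha.add hb
  | mul_X a i ha => simp only [map_mul, aeval_X]; exact ha.mul (continuous_apply i)

lemma isOpen_le_one (v : HeightOneSpectrum (𝓞 k)) : IsOpen {x : v.adicCompletion k | Valued.v x ≤ 1} :=
  (Valued.isOpen_integer (v.adicCompletion k) :)

lemma valuation_aeval_le_one {σ : Type*} (v : HeightOneSpectrum (𝓞 k)) (p : MvPolynomial σ (𝓞 k)) (P : σ → k)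
    (hP : ∀ i, v.valuation k (P i) ≤ 1) : v.valuation k (aeval P p) ≤ 1 := by
  induction p using MvPolynomial.induction_on with
  | C a => rw [aeval_C]; exact v.valuation_le_one a
  | add a b ha hb => rw [map_add]; exact (Valuation.map_add _ _ _).trans (max_le ha hb)
  | mul_X a i ha => rw [map_mul, map_mul, aeval_X]; exact mul_le_one' ha (hP i)

lemma valuation_eval_le_one (v : HeightOneSpectrum (𝓞 k)) (p : Polynomial k) (t : k)
    (hp : ∀ a ∈ p.support, v.valuation k (p.coeff a) ≤ 1) (ht : v.valuation k t ≤ 1) :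
    v.valuation k (p.eval t) ≤ 1 := by
  rw [Polynomial.eval_eq_sum, Polynomial.sum_def]
  refine Valuation.map_sum_le _ fun a ha => ?_
  rw [map_mul, map_pow]
  exact mul_le_one' (hp a ha) (pow_le_one' ht a)

variable (n m : ℕ) (f : Fin m → MvPolynomial (Fin n) (𝓞 k))

local notation "fk" => fun j => MvPolynomial.map (algebraMap (𝓞 k) k) (f j)

lemma isOpen_goodFin (v : HeightOneSpectrum (𝓞 k)) :
    IsOpen {y : Fin n → v.adicCompletion k | (∀ i, Valued.v (y i) ≤ 1) ∧
      ∃ j, Valued.v (aeval y (fk j)) = 1} := by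
  have h1 : IsOpen {y : Fin n → v.adicCompletion k | ∀ i, Valued.v (y i) ≤ 1} := by
    rw [Set.ofPred_forall]
    exact isOpen_iInter_of_finite fun i => (isOpen_le_one v).preimage (continuous_apply (A := fun _ : Fin n => v.adicCompletion k) i)
  have h2 : IsOpen {x : v.adicCompletion k | Valued.v x = 1} := by
    rw [isOpen_iff_mem_nhds]
    intro x hx
    rw [Set.mem_ofPred_eq] at hx
    have h := Valued.locally_const (x := x) (by rw [hx]; exact one_ne_zero)
    exact Filter.mem_of_superset h fun y hy => hy.trans hx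
  have h3 : IsOpen {y : Fin n → v.adicCompletion k | ∃ j, Valued.v (aeval y (fk j)) = 1} := by
    rw [Set.ofPred_exists]
    exact isOpen_iUnion fun j => h2.preimage (continuous_mvAeval _)
  exact h1.inter h3

lemma mem_goodFin_iff (v : HeightOneSpectrum (𝓞 k)) (P : Fin n → k) :
    (fun i => algebraMap k (v.adicCompletion k) (P i)) ∈
      {y : Fin n → v.adicCompletion k | (∀ i, Valued.v (y i) ≤ 1) ∧ ∃ j, Valued.v (aeval y (fk j)) = 1} ↔
      (∀ i, v.valuation k (P i) ≤ 1) ∧ ∃ j, v.valuation k (aeval P (fk j)) = 1 := by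
  have hv : ∀ a : k, Valued.v (algebraMap k (v.adicCompletion k) a) = v.valuation k a :=
    HeightOneSpectrum.valuedAdicCompletion_eq_valuation' v
  simp only [Set.mem_ofPred_eq, hv]
  refine and_congr_right fun _ => exists_congr fun j => ?_
  exact Iff.of_eq (congrArg (· = 1)
    ((congrArg Valued.v (MvPolynomial.aeval_algebraMap_apply (v.adicCompletion k) P _)).trans (hv _)))

set_option maxHeartbeats 1000000 in
theorem exists_SIntegral_point
    (hcodim : ringKrullDim (MvPolynomial (Fin n) k ⧸ Ideal.span (Set.range fk)) + 2 ≤ (n : WithBot ℕ∞))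
    (v₀ : HeightOneSpectrum (𝓞 k)) (Sf : Finset (HeightOneSpectrum (𝓞 k))) (hv₀ : v₀ ∈ Sf)
    (Nf : (v : HeightOneSpectrum (𝓞 k)) → Set (Fin n → v.adicCompletion k))
    (hNf : ∀ v ∈ Sf, v ≠ v₀ → IsOpen (Nf v) ∧ (Nf v).Nonempty)
    (Pi : (w : InfinitePlace k) → (Fin n → w.Completion))
    (hPi : ∀ w, ∃ j, aeval (Pi w) (fk j) ≠ 0)
    (Ni : (w : InfinitePlace k) → Set (Fin n → w.Completion)) (hNi : ∀ w, IsOpen (Ni w) ∧ Pi w ∈ Ni w)
    (T : Finset (HeightOneSpectrum (𝓞 k))) (hT : Disjoint T Sf)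
    (Q : (v : HeightOneSpectrum (𝓞 k)) → (Fin n → v.adicCompletion k))
    (hQ : ∀ v ∈ T, (∀ i, Valued.v (Q v i) ≤ 1) ∧ ∃ j, Valued.v (aeval (Q v) (fk j)) = 1)
    (W : (v : HeightOneSpectrum (𝓞 k)) → Set (Fin n → v.adicCompletion k))
    (hW : ∀ v ∈ T, IsOpen (W v) ∧ Q v ∈ W v)
    (hne : ∀ v : HeightOneSpectrum (𝓞 k), v ∉ Sf → ∃ R : Fin n → v.adicCompletion k,
      (∀ i, Valued.v (R i) ≤ 1) ∧ ∃ j, Valued.v (aeval R (fk j)) = 1) :
    ∃ P : Fin n → k, (∀ v : HeightOneSpectrum (𝓞 k), v ∉ Sf → (∀ i, v.valuation k (P i) ≤ 1) ∧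
        ∃ j, v.valuation k (aeval P (fk j)) = 1) ∧
      (∀ v ∈ Sf, v ≠ v₀ → (fun i => algebraMap k (v.adicCompletion k) (P i)) ∈ Nf v) ∧
      (∀ w, (fun i => algebraMap k w.Completion (P i)) ∈ Ni w) ∧
      ∀ v ∈ T, (fun i => algebraMap k (v.adicCompletion k) (P i)) ∈ W v := by
  classical
  let good : ∀ v : HeightOneSpectrum (𝓞 k), Set (Fin n → v.adicCompletion k) := fun v =>
    {y | (∀ i, Valued.v (y i) ≤ 1) ∧ ∃ j, Valued.v (aeval y (fk j)) = 1}
  let U₀ : ∀ v : HeightOneSpectrum (𝓞 k), Set (Fin n → v.adicCompletion k) := fun v =>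
    if v ∈ Sf then Nf v else W v ∩ good v
  let V₀ : ∀ w : InfinitePlace k, Set (Fin n → w.Completion) := fun w => Ni w ∩ {y | ∃ j, aeval y (fk j) ≠ 0}
  let E₀ := Sf.erase v₀ ∪ T
  have hv₀T : v₀ ∉ T := fun h => Finset.disjoint_left.mp hT h hv₀
  have hE₀ : v₀ ∉ E₀ := by simp [E₀, hv₀T]
  have hU₀ : ∀ v ∈ E₀, IsOpen (U₀ v) ∧ (U₀ v).Nonempty := by
    intro v hv
    simp only [U₀]
    split_ifs with hvS
    · have hne0 : v ≠ v₀ := fun e => hE₀ (e ▸ hv)
      exact hNf v hvS hne0
    · have hvT : v ∈ T := by simpa [E₀, hvS] using hv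
      exact ⟨(hW v hvT).1.inter (isOpen_goodFin n m f v), Q v, (hW v hvT).2, hQ v hvT⟩
  have hV₀ : ∀ w, IsOpen (V₀ w) ∧ (V₀ w).Nonempty := fun w => by
    refine ⟨(hNi w).1.inter ?_, Pi w, (hNi w).2, hPi w⟩
    rw [Set.ofPred_exists]
    exact isOpen_iUnion fun j => isOpen_compl_singleton.preimage (continuous_mvAeval _)
  obtain ⟨P₀, hP₀int, hP₀E, hP₀V⟩ := exists_strong_approx_pi v₀ E₀ hE₀ U₀ hU₀ V₀ hV₀
  have hP₀f : ∃ j, aeval P₀ (fk j) ≠ 0 := by
    obtain ⟨w⟩ := (inferInstance : Nonempty (InfinitePlace k))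
    obtain ⟨-, j, hj⟩ := hP₀V w
    refine ⟨j, fun h => hj ?_⟩
    change aeval (algebraMap k w.Completion ∘ P₀) (fk j) = 0
    rw [MvPolynomial.aeval_algebraMap_apply, h, map_zero]
  have hP₀S : ∀ v, v ∉ Sf → ∀ i, v.valuation k (P₀ i) ≤ 1 := by
    intro v hv i
    by_cases hvT : v ∈ T
    · have := hP₀E v (by simp [E₀, hvT])
      simp only [U₀, if_neg hv] at this
      exact ((mem_goodFin_iff n m f v P₀).mp this.2).1 i
    · exact hP₀int v (by simp [E₀, hvT, hv]) (fun e => hv (e ▸ hv₀)) i
  let B₀set : Set (HeightOneSpectrum (𝓞 k)) := {v | v ∉ E₀ ∧ v ∉ Sf ∧ ∀ j, v.valuation k (aeval P₀ (fk j)) ≠ 1}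
  have hB₀fin : B₀set.Finite := by
    obtain ⟨j, hj⟩ := hP₀f
    exact (finite_setOf_valuation_ne_one _ hj).subset fun v hv => hv.2.2 j
  let B₀ := hB₀fin.toFinset
  obtain ⟨G, hG0, hG⟩ := exists_form_line k n m fk hcodim P₀ hP₀f
  obtain ⟨dstar, hdstar⟩ : ∃ d : Fin n → k, aeval d G ≠ 0 := by
    by_contra hc
    push Not at hc
    exact hG0 (MvPolynomial.funext fun d => by simpa using hc d)
  let U₁ : ∀ v : HeightOneSpectrum (𝓞 k), Set (Fin n → v.adicCompletion k) := fun v =>
    {y | (∀ i, Valued.v (y i) ≤ 1)} ∩ (fun y => (fun i => algebraMap k (v.adicCompletion k) (P₀ i)) + y) ⁻¹' good v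
  have hU₁ : ∀ v ∈ B₀, IsOpen (U₁ v) ∧ (U₁ v).Nonempty := by
    intro v hv
    rw [Set.Finite.mem_toFinset] at hv
    refine ⟨?_, ?_⟩
    · refine IsOpen.inter ?_ ((isOpen_goodFin n m f v).preimage (continuous_const.add continuous_id))
      rw [Set.ofPred_forall]
      exact isOpen_iInter_of_finite fun i => (isOpen_le_one v).preimage (continuous_apply (A := fun _ : Fin n => v.adicCompletion k) i)
    · obtain ⟨R, hR, hRj⟩ := hne v hv.2.1
      refine ⟨R - fun i => algebraMap k (v.adicCompletion k) (P₀ i), fun i => ?_, ?_⟩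
      · refine (Valuation.map_sub _ _ _).trans (max_le (hR i) ?_)
        exact (HeightOneSpectrum.valuedAdicCompletion_eq_valuation' v _).trans_le (hP₀S v hv.2.1 i)
      · simp only [Set.mem_preimage, add_sub_cancel]
        exact ⟨hR, hRj⟩
  have hv₀B : v₀ ∉ B₀ := by
    rw [Set.Finite.mem_toFinset]
    exact fun h => h.2.1 hv₀
  obtain ⟨d, hdint, hdB, hdV⟩ := exists_strong_approx_pi v₀ B₀ hv₀B U₁ hU₁
    (fun w => {y : Fin n → w.Completion | aeval y G ≠ 0}) (fun w =>
      ⟨isOpen_compl_singleton.preimage (continuous_mvAeval _), fun i => algebraMap k w.Completion (dstar i), by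
        change aeval (algebraMap k w.Completion ∘ dstar) G ≠ 0
        rw [MvPolynomial.aeval_algebraMap_apply]
        exact fun h => hdstar ((map_eq_zero _).mp h)⟩)
  have hdG : aeval d G ≠ 0 := by
    obtain ⟨w⟩ := (inferInstance : Nonempty (InfinitePlace k))
    intro h
    refine hdV w ?_
    change aeval (algebraMap k w.Completion ∘ d) G = 0
    rw [MvPolynomial.aeval_algebraMap_apply, h, map_zero]
  obtain ⟨hc, hhc⟩ := hG d hdG
  have hd : ∀ v, v ≠ v₀ → ∀ i, v.valuation k (d i) ≤ 1 := by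
    intro v hv0 i
    by_cases hv : v ∈ B₀
    · exact (HeightOneSpectrum.valuedAdicCompletion_eq_valuation' v (d i)).symm.trans_le ((hdB v hv).1 i)
    · exact hdint v hv hv0 i
  let bad : Set (HeightOneSpectrum (𝓞 k)) :=
    (⋃ j, ⋃ a ∈ ((hc j).support : Set ℕ), {v | 1 < v.valuation k ((hc j).coeff a)}) ∪ B₀set
  have hbad : bad.Finite :=
    (Set.finite_iUnion fun j => (hc j).support.finite_toSet.biUnion fun a _ => finite_setOf_one_lt_valuation _).union
      hB₀fin
  let E₂ := E₀ ∪ hbad.toFinset.filter (fun v => v ∉ Sf ∧ v ∉ E₀)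
  have hE₂ : v₀ ∉ E₂ := by simp [E₂, hE₀, hv₀]
  let line : ∀ v : HeightOneSpectrum (𝓞 k), v.adicCompletion k → (Fin n → v.adicCompletion k) := fun v t i =>
    algebraMap k (v.adicCompletion k) (P₀ i) + t * algebraMap k (v.adicCompletion k) (d i)
  let U₂ : ∀ v : HeightOneSpectrum (𝓞 k), Set (v.adicCompletion k) := fun v =>
    if v ∈ E₀ then line v ⁻¹' U₀ v else {t | Valued.v t ≤ 1} ∩ line v ⁻¹' good v
  have hline : ∀ v, Continuous (line v) := fun v => continuous_pi fun i => by fun_prop
  have hline0 : ∀ v, line v 0 = fun i => algebraMap k (v.adicCompletion k) (P₀ i) := fun v => by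
    funext i; simp [line]
  have hU₂ : ∀ v ∈ E₂, IsOpen (U₂ v) ∧ (U₂ v).Nonempty := by
    intro v hv
    simp only [U₂]
    split_ifs with hvE
    · exact ⟨(hU₀ v hvE).1.preimage (hline v), 0, by rw [Set.mem_preimage, hline0]; exact hP₀E v hvE⟩
    · have hvS : v ∉ Sf := by
        simp only [E₂, Finset.mem_union, Finset.mem_filter] at hv
        exact (hv.resolve_left hvE).2.1
      refine ⟨(isOpen_le_one v).inter ((isOpen_goodFin n m f v).preimage (hline v)), ?_⟩
      by_cases hvB : v ∈ B₀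
      · refine ⟨1, by simp, ?_⟩
        have := (hdB v hvB).2
        rw [Set.mem_preimage] at this ⊢
        rw [show line v 1 = (fun i => algebraMap k (v.adicCompletion k) (P₀ i)) +
          fun i => algebraMap k (v.adicCompletion k) (d i) from funext fun i => by simp [line]]
        exact this
      · refine ⟨0, by simp, ?_⟩
        rw [Set.mem_preimage, hline0]
        refine (mem_goodFin_iff n m f v P₀).mpr ⟨hP₀S v hvS, ?_⟩
        by_contra hcj
        push Not at hcj
        exact hvB ((Set.Finite.mem_toFinset _).mpr ⟨hvE, hvS, hcj⟩)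
  let V₂ : ∀ w : InfinitePlace k, Set w.Completion := fun w =>
    (fun t i => algebraMap k w.Completion (P₀ i) + t * algebraMap k w.Completion (d i)) ⁻¹' Ni w
  have hV₂ : ∀ w, IsOpen (V₂ w) ∧ (V₂ w).Nonempty := fun w =>
    ⟨(hNi w).1.preimage (continuous_pi fun i => by fun_prop), 0, by simpa [V₂] using (hP₀V w).1⟩
  obtain ⟨t, htint, htE, htV⟩ := exists_strong_approx v₀ E₂ hE₂ U₂ hU₂ V₂ hV₂
  let P : Fin n → k := fun i => P₀ i + t * d i
  have hPv : ∀ v : HeightOneSpectrum (𝓞 k),
      line v (algebraMap k (v.adicCompletion k) t) = fun i => algebraMap k (v.adicCompletion k) (P i) := fun v => by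
    funext i; simp [line, P]
  have hPE : ∀ v ∈ E₀, (fun i => algebraMap k (v.adicCompletion k) (P i)) ∈ U₀ v := fun v hv => by
    have := htE v (Finset.mem_union_left _ hv)
    simp only [U₂, if_pos hv, Set.mem_preimage, hPv] at this
    exact this
  refine ⟨P, fun v hv => ?_, fun v hv hv0 => ?_, fun w => ?_, fun v hv => ?_⟩
  · by_cases hvE : v ∈ E₀
    · have := hPE v hvE
      simp only [U₀, if_neg hv] at this
      exact (mem_goodFin_iff n m f v P).mp this.2
    by_cases hvb : v ∈ bad
    · have := htE v (Finset.mem_union_right _ (Finset.mem_filter.mpr ⟨hbad.mem_toFinset.mpr hvb, hv, hvE⟩))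
      simp only [U₂, if_neg hvE, Set.mem_inter_iff, Set.mem_preimage, hPv] at this
      exact (mem_goodFin_iff n m f v P).mp this.2
    · have hv0 : v ≠ v₀ := fun e => hv (e ▸ hv₀)
      have hvE₂ : v ∉ E₂ := by simp [E₂, hvE, hvb]
      have ht := htint v hvE₂ hv0
      have hPint : ∀ i, v.valuation k (P i) ≤ 1 := fun i =>
        (Valuation.map_add _ _ _).trans (max_le (hP₀S v hv i) (by rw [map_mul]; exact mul_le_one' ht (hd v hv0 i)))
      refine ⟨hPint, ?_⟩
      by_contra hcj
      push Not at hcj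
      have hlt : ∀ j, v.valuation k (aeval P (fk j)) < 1 := fun j => by
        refine lt_of_le_of_ne ?_ (hcj j)
        rw [MvPolynomial.aeval_map_algebraMap]
        exact valuation_aeval_le_one v (f j) P hPint
      have h1 := congrArg (Polynomial.eval t) hhc
      have hev : ∀ p : MvPolynomial (Fin n) k, Polynomial.eval t
          (aeval (fun i => Polynomial.C (P₀ i) + Polynomial.C (d i) * Polynomial.X) p) = aeval P p := fun p => by
        rw [← Polynomial.coe_aeval_eq_eval, ← AlgHom.comp_apply, MvPolynomial.comp_aeval]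
        congr 2
        funext i
        simp [P]; ring
      rw [Polynomial.eval_finsetSum, Polynomial.eval_one] at h1
      have h1' : ∑ j, (hc j).eval t * aeval P (fk j) = 1 :=
        (Finset.sum_congr rfl fun j _ => ((Polynomial.eval_mul).trans (congrArg (_ * ·) (hev _))).symm).trans h1
      have hlt1 : v.valuation k (∑ j, (hc j).eval t * aeval P (fk j)) < 1 :=
        Valuation.map_sum_lt _ one_ne_zero fun j _ => by
          rw [map_mul]
          refine (mul_le_of_le_one_left' (valuation_eval_le_one v _ t (fun a ha => ?_) ht)).trans_lt (hlt j)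
          by_contra hgt
          exact hvb (Or.inl (Set.mem_iUnion.mpr ⟨j, Set.mem_biUnion ha (not_le.mp hgt)⟩))
      rw [h1', map_one] at hlt1
      exact lt_irrefl _ hlt1
  · have := hPE v (by simp [E₀, hv, hv0])
    simpa only [U₀, if_pos hv] using this
  · simpa only [V₂, P, Set.mem_preimage, map_add, map_mul] using htV w
  · have hvS : v ∉ Sf := fun h => Finset.disjoint_left.mp hT hv h
    have := hPE v (by simp [E₀, hv])
    simp only [U₀, if_neg hvS] at this
    exact this.1

end SApproxLib
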